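import Mathlib
import Cfsg.Prelude.Def_GeometricClasses
import Cfsg.Agent.Asch.FormField
import Cfsg.Agent.Asch.Members
set_option autoImplicit false
set_option linter.unusedSectionVars false

/-!
Classes 1, 2, 3 (and the degenerate cases in class 8) for symplectic and unitary forms (helper99).
-/

namespace Cfsg.Agent.Asch

open Module Cfsg.Geo

open scoped Matrix Kronecker MatrixGroups

variable {ι : Type} [Fintype ι] [DecidableEq ι] {F : Type*} [Field F]

/-- the common part: class 1 or a two-part decomposition for a reducible group -/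
theorem HermForm.reducible_cases {σ : F ≃+* F} {ε : F} {f : (ι → F) → (ι → F) → F} (h : HermForm σ ε f)
    {H : Subgroup (GL ι F)} (hf : FixesForm (matrixSet H) f) (hred : ¬ Irred (natRep H)) :
    (∃ W : Submodule F (ι → F), W ≠ ⊥ ∧ IsTotallySingularFor f W ∧ H ≤ subspaceStabilizer W) ∨
    (∃ W : Submodule F (ι → F), W ≠ ⊥ ∧ IsNondegenerateOn f W ∧ 2 * finrank F W < Fintype.card ι ∧
      H ≤ subspaceStabilizer W) ∨
    (∃ (t k : ℕ) (D : Fin t → Submodule F (ι → F)), IsNondegenerateMDecomposition f k D ∧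
      H ≤ decompositionStabilizer D) := by
  obtain ⟨W, h1, h2, h3, -, h5⟩ := h.exists_invariant hf hred
  rcases h5 with h5 | h5
  · exact Or.inl ⟨W, h1, h5, h3⟩
  right
  have hdim := h.finrank_perp_of_nondegenerate h5
  have hperp0 : h.perp W ≠ ⊥ := by
    intro h0
    have hc := (h.isCompl_perp h5).sup_eq_top
    rw [h0, sup_bot_eq] at hc
    exact h2 hc
  rcases lt_trichotomy (2 * finrank F W) (Fintype.card ι) with h6 | h6 | h6
  · exact Or.inl ⟨W, h1, h5, h6, h3⟩
  · right
    obtain ⟨h7, h8⟩ := h.decomp_two hf h1 h5 h3 h6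
    exact ⟨2, _, _, h7, h8⟩
  · left
    exact ⟨h.perp W, hperp0, h.perp_nondegenerate h5, by omega, h.perp_stabilizer hf h3⟩

section symplectic

variable [Fintype F] {f : (ι → F) → (ι → F) → F}

lemma two_eq_zero_of_not_odd (h : ¬ Odd (Fintype.card F)) : (2 : F) = 0 := by
  rw [Nat.not_odd_iff_even] at h
  obtain ⟨p, hp⟩ := CharP.exists F
  have hpp := CharP.char_is_prime F p
  obtain ⟨k, _, hk⟩ := FiniteField.card F p
  rw [hk] at h
  have : p = 2 := (Nat.Prime.even_iff hpp).mp (Nat.even_pow.mp h).1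
  subst this
  exact_mod_cast CharP.cast_eq_zero F 2

lemma two_ne_zero_of_odd' (h : Odd (Fintype.card F)) : (2 : F) ≠ 0 := by
  intro h2
  obtain ⟨p, hp⟩ := CharP.exists F
  have hpp := CharP.char_is_prime F p
  have h3 : p ∣ 2 := (CharP.cast_eq_zero_iff F p 2).1 (by exact_mod_cast h2)
  have h4 : p = 2 := (Nat.prime_dvd_prime_iff_eq hpp Nat.prime_two).1 h3
  obtain ⟨k, _, hk⟩ := FiniteField.card F p
  rw [hk, h4] at h
  have := (Nat.odd_pow_iff k.ne_zero).1 h
  exact absurd this (by decide)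

theorem sp_of_reducible (hf : IsSymplecticForm f) {H : Subgroup (GL ι F)} (hH : FixesForm (matrixSet H) f)
    (hred : ¬ Irred (natRep H)) : ∃ M, SpMember f M ∧ H ≤ M := by
  have h := hermForm_of_symplectic hf
  rcases h.reducible_cases hH hred with ⟨W, h1, h2, h3⟩ | ⟨W, h1, h2, h3, h4⟩ | ⟨t, k, D, h1, h2⟩
  · exact ⟨_, Or.inl ⟨W, h1, h2, rfl⟩, h3⟩
  · exact ⟨_, Or.inr (Or.inl ⟨W, h1, h2, h3, rfl⟩), h4⟩
  · exact ⟨_, Or.inr (Or.inr (Or.inl ⟨t, k, D, h1, rfl⟩)), h2⟩

/-- in characteristic two the stabiliser of a pair of totally singular complements fixes a quadratic form -/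
lemma exists_quad_of_pair (hf : IsSymplecticForm f) (h2 : (2 : F) = 0) {H : Subgroup (GL ι F)}
    (hH : FixesForm (matrixSet H) f) {m : ℕ} {D : Fin 2 → Submodule F (ι → F)} (hD : IsMDecomposition m D)
    (hts : ∀ i, IsTotallySingularFor f (D i)) (hst : H ≤ decompositionStabilizer D) :
    ∃ Q : (ι → F) → F, IsNondegenerateQuadraticForm Q ∧ (∀ u v, QuadraticMap.polar Q u v = f u v) ∧
      H ≤ quadSimilarityGroup Q := by
  have hneg : ∀ a : F, -a = a := by
    intro a
    have : a + a = 0 := by rw [← two_mul, h2, zero_mul]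
    exact (eq_neg_of_add_eq_zero_left this).symm
  have hc : IsCompl (D 0) (D 1) := by
    constructor
    · exact hD.indep.pairwiseDisjoint (show (0 : Fin 2) ≠ 1 by decide)
    · rw [codisjoint_iff, eq_top_iff, ← hD.iSup_eq_top]
      refine iSup_le fun i => ?_
      fin_cases i
      · exact le_sup_left
      · exact le_sup_right
  have hdec : ∀ v : ι → F, ∃ a ∈ D 0, ∃ b ∈ D 1, a + b = v := by
    intro v
    exact Submodule.mem_sup.1 (by rw [hc.sup_eq_top]; trivial)
  set π : (ι → F) →ₗ[F] (ι → F) := (D 0).subtype ∘ₗ Submodule.projectionOnto (D 0) (D 1) hc with hπ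
  have hπ0 : ∀ a ∈ D 0, π a = a := by
    intro a ha
    have := Submodule.projectionOnto_apply_left hc ⟨a, ha⟩
    rw [hπ, LinearMap.comp_apply, this]; rfl
  have hπ1 : ∀ b ∈ D 1, π b = 0 := by
    intro b hb
    have := Submodule.projectionOnto_apply_right hc ⟨b, hb⟩
    rw [hπ, LinearMap.comp_apply, this]; rfl
  have hB := hf.bilinear
  set Q : (ι → F) → F := fun v => f (π v) v with hQ
  have hQab : ∀ a ∈ D 0, ∀ b ∈ D 1, Q (a + b) = f a b := by
    intro a ha b hb
    rw [hQ]
    simp only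
    rw [map_add, hπ0 a ha, hπ1 b hb, add_zero, hB.add_right, hf.alternating, zero_add]
  have hpol : ∀ u v, QuadraticMap.polar Q u v = f u v := by
    intro u v
    obtain ⟨a, ha, b, hb, rfl⟩ := hdec u
    obtain ⟨c, hc', d, hd, rfl⟩ := hdec v
    unfold QuadraticMap.polar
    have e1 : a + b + (c + d) = (a + c) + (b + d) := by abel
    rw [e1, hQab _ ((D 0).add_mem ha hc') _ ((D 1).add_mem hb hd), hQab a ha b hb, hQab c hc' d hd]
    simp only [hB.add_left, hB.add_right]
    rw [hts 0 a ha c hc', hts 1 b hb d hd, hf.skew b c, hneg]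
    ring
  have hpolf : QuadraticMap.polar Q = f := by ext u v; exact hpol u v
  refine ⟨Q, ⟨?_, ?_, ?_⟩, hpol, ?_⟩
  · intro c v
    rw [hQ]
    simp only
    rw [map_smul, hB.smul_left, hB.smul_right]; ring
  · rw [hpolf]; exact hf.bilinear
  · rw [hpolf]; exact hf.nondegenerate
  · intro g hg
    obtain ⟨τ, hτ⟩ := hst hg
    have hgf : ∀ u v, f ((g : Matrix ι ι F) *ᵥ u) ((g : Matrix ι ι F) *ᵥ v) = f u v := hH _ ⟨g, hg, rfl⟩
    refine ⟨1, fun v => ?_⟩
    rw [Units.val_one, one_mul]
    obtain ⟨a, ha, b, hb, rfl⟩ := hdec v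
    rw [hQab a ha b hb, Matrix.mulVec_add]
    have hga : (g : Matrix ι ι F) *ᵥ a ∈ D (τ 0) := by rw [← hτ 0]; exact ⟨a, ha, rfl⟩
    have hgb : (g : Matrix ι ι F) *ᵥ b ∈ D (τ 1) := by rw [← hτ 1]; exact ⟨b, hb, rfl⟩
    have hcases : (τ 0 = 0 ∧ τ 1 = 1) ∨ (τ 0 = 1 ∧ τ 1 = 0) := by
      have h3 : τ 0 ≠ τ 1 := fun h => absurd (τ.injective h) (by decide)
      revert h3
      generalize τ 0 = x
      generalize τ 1 = y
      revert x y
      decide
    rcases hcases with ⟨h3, h4⟩ | ⟨h3, h4⟩
    · rw [h3] at hga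
      rw [h4] at hgb
      rw [hQab _ hga _ hgb, hgf]
    · rw [h3] at hga
      rw [h4] at hgb
      rw [add_comm, hQab _ hgb _ hga, hgf, hf.skew, hneg]

/-- in characteristic two the normaliser of a quadratic field closed under adjoints, not self-adjoint, fixes a quadratic form -/
lemma exists_quad_of_field (hf : IsSymplecticForm f) (h2 : (2 : F) = 0) {H : Subgroup (GL ι F)} [Nonempty ι]
    (hH : FixesForm (matrixSet H) f) {K : Subalgebra F (Module.End F (ι → F))} (hK : FieldSub 2 K)
    (hadj : AdjClosed f K) (hns : ¬ ∀ k ∈ K, Adj f k k) (hnorm : NormAlg (natRep H) K) :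
    ∃ Q : (ι → F) → F, IsNondegenerateQuadraticForm Q ∧ (∀ u v, QuadraticMap.polar Q u v = f u v) ∧
      H ≤ quadSimilarityGroup Q := by
  have h := hermForm_of_symplectic hf
  have hB := hf.bilinear
  have hneg : ∀ a : F, -a = a := by
    intro a
    have : a + a = 0 := by rw [← two_mul, h2, zero_mul]
    exact (eq_neg_of_add_eq_zero_left this).symm
  push Not at hns
  obtain ⟨κ, hκ, hκn⟩ := hns
  obtain ⟨κ', hκ', hκκ'⟩ := hadj κ hκ
  have hne : κ ≠ κ' := by
    rintro rfl; exact hκn hκκ'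
  -- every element of `K` is a combination of `1` and `κ`
  have hgen : ∀ k ∈ K, ∃ a b : F, k = algebraMap F _ a + b • κ := by
    have hli : LinearIndependent F ![(1 : Module.End F (ι → F)), κ] := by
      rw [LinearIndependent.pair_iff' one_ne_zero]
      intro a h3
      apply hκn
      rw [← h3, ← Algebra.algebraMap_eq_smul_one]
      exact h.adj_algebraMap a
    have hspan : Submodule.span F (Set.range ![(1 : Module.End F (ι → F)), κ]) = Subalgebra.toSubmodule K := by
      apply Submodule.eq_of_le_of_finrank_eq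
      · rw [Submodule.span_le]
        rintro _ ⟨i, rfl⟩
        fin_cases i
        · exact K.one_mem
        · exact hκ
      · rw [finrank_span_eq_card hli, Fintype.card_fin]
        exact hK.finrank_eq.symm
    intro k hk
    have h4 : k ∈ Submodule.span F (Set.range ![(1 : Module.End F (ι → F)), κ]) := by
      rw [hspan]; exact hk
    rw [Matrix.range_cons, Matrix.range_cons, Matrix.range_empty, Set.union_empty, Set.singleton_union,
      Submodule.mem_span_pair] at h4
    obtain ⟨a, b, hab⟩ := h4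
    exact ⟨a, b, by rw [Algebra.algebraMap_eq_smul_one]; exact hab.symm⟩
  -- the trace
  have htr : ∃ t : F, κ + κ' = algebraMap F _ t := by
    obtain ⟨a, b, hab⟩ := hgen (κ + κ') (K.add_mem hκ hκ')
    -- `κ + κ'` is self-adjoint
    have h3 : Adj f (κ + κ') (κ' + κ) := h.adj_add hκκ' (h.adj_symm hκκ')
    rw [add_comm κ' κ, hab] at h3
    have h4 : Adj f (algebraMap F (Module.End F (ι → F)) a + b • κ) (algebraMap F _ a + b • κ') := by
      refine h.adj_add (h.adj_algebraMap a) ?_
      intro u v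
      show f (b • κ u) v = f u (b • κ' v)
      rw [hB.smul_left, hB.smul_right, hκκ']
    have h5 := h.adj_unique h3 h4
    have h6 : b • κ = b • κ' := add_left_cancel h5
    by_cases hb : b = 0
    · exact ⟨a, by rw [hab, hb, zero_smul, add_zero]⟩
    · exact absurd (smul_right_injective _ hb h6) hne
  obtain ⟨t, ht⟩ := htr
  have ht0 : t ≠ 0 := by
    rintro rfl
    rw [map_zero] at ht
    apply hne
    refine LinearMap.ext fun v => funext fun i => ?_
    have h3 : κ v i + κ' v i = 0 := congrFun (LinearMap.congr_fun ht v) i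
    rw [eq_neg_of_add_eq_zero_left h3, hneg]
  set Q : (ι → F) → F := fun v => t⁻¹ * f v (κ v) with hQ
  have hpol : ∀ u v, QuadraticMap.polar Q u v = f u v := by
    intro u v
    unfold QuadraticMap.polar
    rw [hQ]
    simp only [map_add, hB.add_left, hB.add_right]
    have h3 : f v (κ u) = f u (κ' v) := by
      rw [hf.skew, hneg, hκκ']
    have h4 : f u (κ v) + f u (κ' v) = t * f u v := by
      rw [← hB.add_right]
      have : κ v + κ' v = t • v := by
        have := LinearMap.congr_fun ht v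
        simpa using this
      rw [this, hB.smul_right]
    rw [h3]
    calc t⁻¹ * (f u (κ u) + f u (κ v) + (f u (κ' v) + f v (κ v))) - t⁻¹ * f u (κ u) - t⁻¹ * f v (κ v)
        = t⁻¹ * (f u (κ v) + f u (κ' v)) := by ring
      _ = f u v := by rw [h4, ← mul_assoc, inv_mul_cancel₀ ht0, one_mul]
  have hpolf : QuadraticMap.polar Q = f := by ext u v; exact hpol u v
  refine ⟨Q, ⟨?_, ?_, ?_⟩, hpol, ?_⟩
  · intro c v
    rw [hQ]
    simp only [map_smul, hB.smul_left, hB.smul_right]; ring
  · rw [hpolf]; exact hf.bilinear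
  · rw [hpolf]; exact hf.nondegenerate
  · intro g hg
    have hgf : ∀ u v, f ((g : Matrix ι ι F) *ᵥ u) ((g : Matrix ι ι F) *ᵥ v) = f u v := hH _ ⟨g, hg, rfl⟩
    refine ⟨1, fun v => ?_⟩
    rw [Units.val_one, one_mul, hQ]
    simp only
    congr 1
    -- conjugate of κ by g⁻¹
    set g' : H := ⟨g, hg⟩ with hg'
    have hconj : natRep H g'⁻¹ * κ * natRep H g' ∈ K := by
      have := hnorm g'⁻¹ κ hκ
      rwa [inv_inv] at this
    set κ₁ := natRep H g'⁻¹ * κ * natRep H g' with hκ₁
    have hrel : ∀ v, κ ((g : Matrix ι ι F) *ᵥ v) = (g : Matrix ι ι F) *ᵥ (κ₁ v) := by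
      intro v
      have h3 : natRep H g' (κ₁ v) = κ (natRep H g' v) := by
        rw [hκ₁]
        show natRep H g' (natRep H g'⁻¹ (κ (natRep H g' v))) = _
        rw [rho_apply_inv]
      exact h3.symm
    rw [hrel, hgf]
    -- the adjoint of κ₁ is the conjugate of κ', so κ₁ + κ₁' = t
    set κ₂ := natRep H g'⁻¹ * κ' * natRep H g' with hκ₂
    have hadj12 : Adj f κ₁ κ₂ := by
      intro u v
      have e1 : ∀ w, natRep H g' (natRep H g'⁻¹ w) = w := rho_apply_inv g'
      have e2 : ∀ u v, f (natRep H g' u) (natRep H g' v) = f u v := hgf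
      show f (natRep H g'⁻¹ (κ (natRep H g' u))) v = f u (natRep H g'⁻¹ (κ' (natRep H g' v)))
      rw [← e2, e1, hκκ', ← e2 u, e1]
    obtain ⟨a, b, hab⟩ := hgen κ₁ hconj
    have hsum : κ₁ + κ₂ = algebraMap F _ t := by
      rw [hκ₁, hκ₂, ← add_mul, ← mul_add, ht, mul_assoc, Algebra.commutes, ← mul_assoc, rho_inv_mul, one_mul]
    have h5 : Adj f κ₁ (algebraMap F _ a + b • κ') := by
      rw [hab]
      refine h.adj_add (h.adj_algebraMap a) ?_
      intro u v
      show f (b • κ u) v = f u (b • κ' v)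
      rw [hB.smul_left, hB.smul_right, hκκ']
    have h6 := h.adj_unique hadj12 h5
    have h7 : algebraMap F (Module.End F (ι → F)) (a + a + b * t) = algebraMap F _ t := by
      rw [← hsum, h6, hab, map_add, map_add, map_mul, ← ht, Algebra.algebraMap_eq_smul_one b, smul_mul_assoc, one_mul,
        smul_add]
      abel
    have h8 : a + a + b * t = t := (algebraMap F (Module.End F (ι → F))).injective h7
    have h9 : b = 1 := by
      have h10 : a + a = 0 := by rw [← two_mul, h2, zero_mul]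
      rw [h10, zero_add] at h8
      exact mul_right_cancel₀ ht0 (h8.trans (one_mul t).symm)
    rw [hab, h9, one_smul]
    show f v (algebraMap F (Module.End F (ι → F)) a v + κ v) = f v (κ v)
    rw [Module.algebraMap_end_apply, hB.add_right, hB.smul_right, hf.alternating, mul_zero, zero_add]

lemma selfAdjoint_apply (hf : IsSymplecticForm f) [Nonempty ι] {r : ℕ} {K : Subalgebra F (Module.End F (ι → F))}
    (hK : FieldSub r K) (hs : ∀ k ∈ K, Adj f k k) : ∀ k ∈ K, ∀ v, f (k v) v = 0 := by
  have hB := hf.bilinear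
  by_cases hodd : Odd (Fintype.card F)
  · have h2 := two_ne_zero_of_odd' hodd
    intro k hk v
    have h3 := hs k hk v v
    rw [hf.skew v (k v)] at h3
    have h4 : 2 * f (k v) v = 0 := by linear_combination h3
    exact (mul_eq_zero.1 h4).resolve_left h2
  · have h2 := two_eq_zero_of_not_odd hodd
    have hfin : Finite (Module.End F (ι → F)) := Module.finite_of_finite F
    have hK2' : (algebraMap F K 2 : K) = 0 := by rw [h2, map_zero]
    have hK2'' : (algebraMap F K 2 : K) = 2 := map_ofNat (algebraMap F K) 2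
    have hK2 : (2 : K) = 0 := hK2''.symm.trans hK2'
    let iF : Field K := hK.isField.toField
    have hch : CharP K 2 := CharTwo.of_one_ne_zero_of_two_eq_zero one_ne_zero hK2
    intro k hk v
    obtain ⟨l, hl⟩ := FiniteField.isSquare_of_char_two (ringChar.eq_iff.mpr hch) (⟨k, hk⟩ : K)
    have h4 : k = (l : Module.End F (ι → F)) * l := congrArg Subtype.val hl
    rw [h4]
    show f ((l : Module.End F (ι → F)) ((l : Module.End F (ι → F)) v)) v = 0
    rw [hs _ l.2, hf.alternating]

/-- **Clifford theory for symplectic groups.** -/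
theorem sp_clifford [Nonempty ι] (hf : IsSymplecticForm f) {H : Subgroup (GL ι F)} (hH : FixesForm (matrixSet H) f)
    (hirr : Irred (natRep H)) {A : Subalgebra F (Module.End F (ι → F))} (hA : NormAlg (natRep H) A)
    (hadj : AdjClosed f A) :
    (∃ M, SpMember f M ∧ H ≤ M) ∨ (IsIsotypic A (ι → F) ∧ Subalgebra.center F A = ⊥) := by
  have h := hermForm_of_symplectic hf
  rcases h.clifford_form hH hirr hA hadj with h1 | ⟨t, m, D, h1, h2, -⟩ | ⟨m, D, h1, h2, h3, -⟩
  · by_cases hcen : Subalgebra.center F A = ⊥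
    · exact Or.inr ⟨h1, hcen⟩
    left
    have hnt : Nontrivial (ι → F) := inferInstance
    have hss := isSemisimpleModule_of_irred hirr hA
    have hsimple := isSimpleRing_of_isotypic h1
    obtain ⟨r, K, hr, hK, hKA, hnorm, hKadj⟩ := h.exists_fieldSub hA hadj hcen
    have hle := le_subalgebraNormalizer_of_normAlg hnorm
    by_cases hs : ∀ k ∈ K, Adj f k k
    · refine ⟨_, Or.inr (Or.inr (Or.inr (Or.inr (Or.inl ⟨r, matAlg K, hr, hK.isFieldSubalgebra, ?_, ?_, rfl⟩)))), hle⟩
      · intro k hk u v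
        exact hs _ hk u v
      · intro k hk v
        exact selfAdjoint_apply hf hK hs _ hk v
    · have hr2 : r = 2 := (h.selfAdjoint_or hr hK hKadj).resolve_left hs
      subst hr2
      by_cases hodd : Odd (Fintype.card F)
      · refine ⟨_, Or.inr (Or.inr (Or.inr (Or.inr (Or.inr (Or.inl ⟨matAlg K, hodd, hK.isFieldSubalgebra, ?_, ?_, rfl⟩))))), hle⟩
        · intro k hk
          obtain ⟨k', hk', hkk'⟩ := hKadj _ hk
          refine ⟨LinearMap.toMatrix' k', ?_, ?_⟩
          · rw [mem_matAlg, Matrix.toLin'_toMatrix']; exact hk'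
          · intro u v
            have := hkk' u v
            rw [← Matrix.toLin'_apply (LinearMap.toMatrix' k'), Matrix.toLin'_toMatrix']
            exact this
        · intro hs'
          apply hs
          intro k hk u v
          have := hs' (LinearMap.toMatrix' k) (by rw [mem_matAlg, Matrix.toLin'_toMatrix']; exact hk) u v
          rw [← Matrix.toLin'_apply, ← Matrix.toLin'_apply, Matrix.toLin'_toMatrix'] at this
          exact this
      · obtain ⟨Q, h4, h5, h6⟩ := exists_quad_of_field hf (two_eq_zero_of_not_odd hodd) hH hK hKadj hs hnorm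
        exact ⟨_, Or.inr (Or.inr (Or.inr (Or.inr (Or.inr (Or.inr (Or.inr (Or.inr (Or.inr (Or.inr
          ⟨Q, hodd, h4, h5, rfl⟩))))))))), h6⟩
  · left
    exact ⟨_, Or.inr (Or.inr (Or.inl ⟨t, m, D, h1, rfl⟩)), h2⟩
  · left
    by_cases hodd : Odd (Fintype.card F)
    · exact ⟨_, Or.inr (Or.inr (Or.inr (Or.inl ⟨m, D, hodd, h1, h2, rfl⟩))), h3⟩
    · obtain ⟨Q, h4, h5, h6⟩ := exists_quad_of_pair hf (two_eq_zero_of_not_odd hodd) hH h1 h2 h3
      exact ⟨_, Or.inr (Or.inr (Or.inr (Or.inr (Or.inr (Or.inr (Or.inr (Or.inr (Or.inr (Or.inr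
        ⟨Q, hodd, h4, h5, rfl⟩))))))))), h6⟩

end symplectic

section unitary

variable [Fintype F] {f : (ι → F) → (ι → F) → F} {σ : F ≃+* F} {q : ℕ}

theorem uni_of_reducible (hf : IsUnitaryForm σ f) {H : Subgroup (GL ι F)} (hH : FixesForm (matrixSet H) f)
    (hred : ¬ Irred (natRep H)) : ∃ M, UniMember q f M ∧ H ≤ M := by
  have h := hermForm_of_unitary hf
  rcases h.reducible_cases hH hred with ⟨W, h1, h2, h3⟩ | ⟨W, h1, h2, h3, h4⟩ | ⟨t, k, D, h1, h2⟩
  · exact ⟨_, Or.inl ⟨W, h1, h2, rfl⟩, h3⟩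
  · exact ⟨_, Or.inr (Or.inl ⟨W, h1, h2, h3, rfl⟩), h4⟩
  · exact ⟨_, Or.inr (Or.inr (Or.inl ⟨t, k, D, h1, rfl⟩)), h2⟩

/-- **Clifford theory for unitary groups.** -/
theorem uni_clifford [Nonempty ι] (hf : IsUnitaryForm σ f) {H : Subgroup (GL ι F)} (hH : FixesForm (matrixSet H) f)
    (hirr : Irred (natRep H)) {A : Subalgebra F (Module.End F (ι → F))} (hA : NormAlg (natRep H) A)
    (hadj : AdjClosed f A) :
    (∃ M, UniMember q f M ∧ H ≤ M) ∨ (IsIsotypic A (ι → F) ∧ Subalgebra.center F A = ⊥) := by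
  have h := hermForm_of_unitary hf
  rcases h.clifford_form hH hirr hA hadj with h1 | ⟨t, m, D, h1, h2, -⟩ | ⟨m, D, h1, h2, h3, -⟩
  · by_cases hcen : Subalgebra.center F A = ⊥
    · exact Or.inr ⟨h1, hcen⟩
    left
    have hnt : Nontrivial (ι → F) := inferInstance
    have hss := isSemisimpleModule_of_irred hirr hA
    have hsimple := isSimpleRing_of_isotypic h1
    obtain ⟨r, K, hr, hK, hKA, hnorm, hKadj⟩ := h.exists_fieldSub hA hadj hcen
    have hle := le_subalgebraNormalizer_of_normAlg hnorm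
    have hσ : ∃ c, σ c ≠ c := by
      by_contra hcon
      push Not at hcon
      exact hf.ne_refl (RingEquiv.ext hcon)
    have hr2 := h.degree_ne_two hK hKadj hσ
    refine ⟨_, Or.inr (Or.inr (Or.inr (Or.inr (Or.inl ⟨r, matAlg K, hr, hr.odd_of_ne_two hr2, hK.isFieldSubalgebra, ?_,
      rfl⟩)))), hle⟩
    intro k hk
    obtain ⟨k', hk', hkk'⟩ := hKadj _ hk
    refine ⟨LinearMap.toMatrix' k', ?_, ?_⟩
    · rw [mem_matAlg, Matrix.toLin'_toMatrix']; exact hk'
    · intro u v
      have := hkk' u v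
      rw [← Matrix.toLin'_apply (LinearMap.toMatrix' k'), Matrix.toLin'_toMatrix']
      exact this
  · left
    exact ⟨_, Or.inr (Or.inr (Or.inl ⟨t, m, D, h1, rfl⟩)), h2⟩
  · left
    have hcard := card_eq_of_mDecomposition h1
    exact ⟨_, Or.inr (Or.inr (Or.inr (Or.inl ⟨m, D, by omega, h1, h2, rfl⟩))), h3⟩

end unitary

end Cfsg.Agent.Asch
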