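import Mathlib
import Cfsg.Prelude.Def_GeometricClasses
import Cfsg.Agent.Asch.FormMembers
import Cfsg.Agent.Asch.SubfieldC5
set_option autoImplicit false
set_option linter.unusedSectionVars false

/-!
Classes 1, 2, 3 for orthogonal groups (helper99).
-/

namespace Cfsg.Agent.Asch

open Module Cfsg.Geo

open scoped Matrix Kronecker MatrixGroups

variable {ι : Type} [Fintype ι] [DecidableEq ι] {F : Type*} [Field F]

lemma polar_self {Q : (ι → F) → F} (hQ : IsNondegenerateQuadraticForm Q) (w : ι → F) :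
    QuadraticMap.polar Q w w = 2 * Q w := by
  unfold QuadraticMap.polar
  have : w + w = (2 : F) • w := by rw [two_smul]
  rw [this, hQ.smul]
  ring

lemma quad_add (Q : (ι → F) → F) (u v : ι → F) : Q (u + v) = Q u + Q v + QuadraticMap.polar Q u v := by
  unfold QuadraticMap.polar; ring

/-- the singular vectors of a totally isotropic subspace, characteristic two -/
def singSub {Q : (ι → F) → F} (hQ : IsNondegenerateQuadraticForm Q) (W : Submodule F (ι → F))
    (hW : IsTotallySingularFor (QuadraticMap.polar Q) W) : Submodule F (ι → F) where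
  carrier := {w | w ∈ W ∧ Q w = 0}
  add_mem' := by
    rintro a b ⟨ha, ha'⟩ ⟨hb, hb'⟩
    exact ⟨W.add_mem ha hb, by rw [quad_add Q, ha', hb', hW a ha b hb]; ring⟩
  zero_mem' := ⟨W.zero_mem, by have := hQ.smul 0 0; simpa using this⟩
  smul_mem' := by
    rintro c x ⟨hx, hx'⟩
    exact ⟨W.smul_mem c hx, by rw [hQ.smul, hx', mul_zero]⟩

lemma mem_singSub {Q : (ι → F) → F} (hQ : IsNondegenerateQuadraticForm Q) (W : Submodule F (ι → F))
    (hW : IsTotallySingularFor (QuadraticMap.polar Q) W) {w : ι → F} : w ∈ singSub hQ W hW ↔ w ∈ W ∧ Q w = 0 := Iff.rfl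

/-- if `Q` is anisotropic on a totally isotropic subspace then it has dimension at most one (perfect field of char 2) -/
lemma exists_span_of_aniso [Fintype F] (h2 : (2 : F) = 0) {Q : (ι → F) → F} (hQ : IsNondegenerateQuadraticForm Q)
    {W : Submodule F (ι → F)} (hW : IsTotallySingularFor (QuadraticMap.polar Q) W) (h0 : W ≠ ⊥)
    (han : ∀ w ∈ W, Q w = 0 → w = 0) : ∃ w ∈ W, Q w ≠ 0 ∧ W = Submodule.span F {w} := by
  have hch : CharP F 2 := CharTwo.of_one_ne_zero_of_two_eq_zero one_ne_zero h2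
  obtain ⟨w, hw, hw0⟩ := Submodule.exists_mem_ne_zero_of_ne_bot h0
  have hQw : Q w ≠ 0 := fun h => hw0 (han w hw h)
  refine ⟨w, hw, hQw, ?_⟩
  apply le_antisymm
  · intro v hv
    obtain ⟨c, hc⟩ := FiniteField.isSquare_of_char_two (ringChar.eq_iff.mpr hch) (Q v / Q w)
    have h1 : Q (v + c • w) = 0 := by
      rw [quad_add Q, hQ.smul, hW v hv _ (W.smul_mem c hw), add_zero, pow_two, ← hc, div_mul_cancel₀ _ hQw]
      rw [← two_mul, h2, zero_mul]
    have h3 := han _ (W.add_mem hv (W.smul_mem c hw)) h1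
    rw [Submodule.mem_span_singleton]
    exact ⟨-c, by rw [neg_smul]; exact (eq_neg_of_add_eq_zero_left h3).symm⟩
  · rw [Submodule.span_le]
    rintro x hx
    rw [Set.mem_singleton_iff] at hx
    rw [hx]; exact hw

/-- **reducible orthogonal groups** -/
theorem orth_of_reducible [Fintype F] {Q : (ι → F) → F} (hQ : IsNondegenerateQuadraticForm Q) {H : Subgroup (GL ι F)}
    (hH : FixesQuadForm (matrixSet H) Q) (hred : ¬ Irred (natRep H)) : ∃ M, OrthMember Q M ∧ H ≤ M := by
  have h := hermForm_polar hQ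
  have hHf := fixesForm_polar hH
  obtain ⟨W, h1, h2, h3, h4, h5⟩ := h.exists_invariant hHf hred
  rcases h5 with h5 | h5
  · by_cases hc : (2 : F) = 0
    · have hinv : H ≤ subspaceStabilizer (singSub hQ W h5) := by
        intro g hg
        apply mem_subspaceStabilizer_of_le
        rintro _ ⟨v, ⟨hv, hv'⟩, rfl⟩
        refine ⟨?_, ?_⟩
        · have := mem_subspaceStabilizer_iff.1 (h3 hg)
          rw [← this]; exact ⟨v, hv, rfl⟩
        · rw [Matrix.toLin'_apply, hH _ ⟨g, hg, rfl⟩]; exact hv'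
      rcases h4 (singSub hQ W h5) (fun w hw => ((mem_singSub hQ W h5).1 hw).1) hinv with h6 | h6
      · obtain ⟨w, hw, hQw, hWw⟩ := exists_span_of_aniso hc hQ h5 h1 (by
          intro w hw hQw
          have : w ∈ singSub hQ W h5 := ⟨hw, hQw⟩
          rw [h6] at this
          exact this)
        refine ⟨_, Or.inr (Or.inr (Or.inl ⟨w, ?_, hQw, rfl⟩)), ?_⟩
        · intro hodd; exact two_ne_zero_of_odd' hodd hc
        · rw [← hWw]; exact h3
      · refine ⟨_, Or.inl ⟨W, h1, ?_, rfl⟩, h3⟩
        intro w hw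
        have : w ∈ singSub hQ W h5 := by rw [h6]; exact hw
        exact this.2
    · refine ⟨_, Or.inl ⟨W, h1, ?_, rfl⟩, h3⟩
      intro w hw
      have h6 := h5 w hw w hw
      rw [polar_self hQ] at h6
      exact (mul_eq_zero.1 h6).resolve_left hc
  · exact ⟨_, Or.inr (Or.inl ⟨W, h1, h2, h5, rfl⟩), h3⟩

lemma isometric_of_mem {Q : (ι → F) → F} {H : Subgroup (GL ι F)} (hH : FixesQuadForm (matrixSet H) Q)
    {W W' : Submodule F (ι → F)} {g : GL ι F} (hg : g ∈ H) (hW : W.map (Matrix.toLin' (g : Matrix ι ι F)) = W') :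
    AreIsometricFor Q W W' := by
  let e : W ≃ₗ[F] W.map ((glEquiv g : (ι → F) ≃ₗ[F] (ι → F)) : (ι → F) →ₗ[F] (ι → F)) := (glEquiv g).submoduleMap W
  have hW' : W.map ((glEquiv g : (ι → F) ≃ₗ[F] (ι → F)) : (ι → F) →ₗ[F] (ι → F)) = W' := hW
  refine ⟨e.trans (LinearEquiv.ofEq _ _ hW'), fun w => ?_⟩
  have : ((e.trans (LinearEquiv.ofEq _ _ hW') w : W') : ι → F) = (g : Matrix ι ι F) *ᵥ (w : ι → F) := rfl
  rw [this]
  exact hH _ ⟨g, hg, rfl⟩ _

/-- a totally isotropic pair is totally singular -/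
lemma pair_singular [Fintype F] {Q : (ι → F) → F} (hQ : IsNondegenerateQuadraticForm Q) {H : Subgroup (GL ι F)}
    (hH : FixesQuadForm (matrixSet H) Q) (hirr : Irred (natRep H)) (h3 : 3 ≤ Fintype.card ι) {m : ℕ}
    {D : Fin 2 → Submodule F (ι → F)} (hD : IsMDecomposition m D)
    (hts : ∀ i, IsTotallySingularFor (QuadraticMap.polar Q) (D i)) (hst : H ≤ decompositionStabilizer D) :
    ∀ i, IsTotallySingularQuad Q (D i) := by
  by_cases hc : (2 : F) = 0
  swap
  · intro i w hw
    have h6 := hts i w hw w hw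
    rw [polar_self hQ] at h6
    exact (mul_eq_zero.1 h6).resolve_left hc
  have hcard := card_eq_of_mDecomposition hD
  set U : Submodule F (ι → F) := singSub hQ (D 0) (hts 0) ⊔ singSub hQ (D 1) (hts 1) with hU
  have hdisj : Disjoint (D 0) (D 1) := hD.indep.pairwiseDisjoint (show (0 : Fin 2) ≠ 1 by decide)
  have hmap : ∀ g ∈ H, ∀ i j, (D i).map (Matrix.toLin' (g : Matrix ι ι F)) = D j → ∀ v ∈ singSub hQ (D i) (hts i),
      Matrix.toLin' (g : Matrix ι ι F) v ∈ singSub hQ (D j) (hts j) := by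
    intro g hg i j hij v hv
    refine ⟨by rw [← hij]; exact ⟨v, hv.1, rfl⟩, ?_⟩
    rw [Matrix.toLin'_apply, hH _ ⟨g, hg, rfl⟩]; exact hv.2
  have hle : ∀ j : Fin 2, singSub hQ (D j) (hts j) ≤ U := by
    intro j; fin_cases j
    · exact le_sup_left
    · exact le_sup_right
  have hinv : ∀ g, U.map (natRep H g) ≤ U := by
    intro g
    obtain ⟨τ, hτ⟩ := hst g.2
    rw [hU, Submodule.map_sup]
    refine sup_le ?_ ?_
    · rintro _ ⟨v, hv, rfl⟩
      exact hle _ (hmap g g.2 0 _ (hτ 0) v hv)
    · rintro _ ⟨v, hv, rfl⟩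
      exact hle _ (hmap g g.2 1 _ (hτ 1) v hv)
  rcases hirr U hinv with h4 | h4
  · exfalso
    have h5 : singSub hQ (D 0) (hts 0) = ⊥ := le_bot_iff.1 (le_sup_left.trans h4.le)
    have hD0 : D 0 ≠ ⊥ := by
      intro h0
      have h2 := hD.finrank_eq 0
      rw [h0, finrank_bot] at h2
      have := hD.pos
      omega
    obtain ⟨w, hw, hQw, hWw⟩ := exists_span_of_aniso hc hQ (hts 0) hD0 (by
      intro w hw hQw
      have : w ∈ singSub hQ (D 0) (hts 0) := ⟨hw, hQw⟩
      rw [h5] at this
      exact this)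
    have h6 := hD.finrank_eq 0
    have hw0 : w ≠ 0 := by
      rintro rfl
      apply hQw
      have := hQ.smul 0 0
      simpa using this
    rw [hWw, finrank_span_singleton hw0] at h6
    omega
  · have key : ∀ i j : Fin 2, i ≠ j → ∀ w ∈ D i, w ∈ singSub hQ (D i) (hts i) ⊔ singSub hQ (D j) (hts j) → Q w = 0 := by
      intro i j hij w hw hmem
      obtain ⟨a, ha, b, hb, hab⟩ := Submodule.mem_sup.1 hmem
      have hd : Disjoint (D i) (D j) := hD.indep.pairwiseDisjoint hij
      have hb0 : b = 0 := by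
        have : b ∈ D i := by
          have h7 : b = w - a := by rw [← hab]; abel
          rw [h7]; exact (D i).sub_mem hw ha.1
        exact (Submodule.disjoint_def.1 hd) b this hb.1
      rw [← hab, hb0, add_zero]
      exact ha.2
    intro i w hw
    have hwU : w ∈ U := by rw [h4]; trivial
    fin_cases i
    · exact key 0 1 (by decide) w hw hwU
    · exact key 1 0 (by decide) w hw (by rw [sup_comm]; exact hwU)

lemma mem_subfieldSubgroup_of_entries {F₀ : Subfield F} {g P : GL ι F}
    (hent : ∀ i j, ((P⁻¹ * g * P : GL ι F) : Matrix ι ι F) i j ∈ F₀) : g ∈ subfieldSubgroup F₀ P := by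
  let M : Matrix ι ι F₀ := fun i j => ⟨_, hent i j⟩
  have hM : M.map (F₀.subtype : F₀ →+* F) = ((P⁻¹ * g * P : GL ι F) : Matrix ι ι F) := by
    ext i j; rfl
  have hdet : M.det ≠ 0 := by
    intro h0
    have h1 := (RingHom.map_det (F₀.subtype : F₀ →+* F) M)
    rw [h0, map_zero] at h1
    have h2 : ((P⁻¹ * g * P : GL ι F) : Matrix ι ι F).det ≠ 0 :=
      (Matrix.GeneralLinearGroup.det (P⁻¹ * g * P)).ne_zero
    apply h2
    rw [← hM]
    exact h1.symm
  refine ⟨P⁻¹ * g * P, Subgroup.mem_sup_left ⟨Matrix.GeneralLinearGroup.mkOfDetNeZero M hdet, ?_⟩, ?_⟩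
  · apply Units.ext
    exact hM
  · show P * (P⁻¹ * g * P) * P⁻¹ = g
    group

/-- `Q` of a sum of pairwise orthogonal vectors -/
lemma quad_sum_orth {Q : (ι → F) → F} (hQ : IsNondegenerateQuadraticForm Q) {κ : Type*} (S : Finset κ) (w : κ → ι → F)
    (hw : ∀ i j, i ≠ j → QuadraticMap.polar Q (w i) (w j) = 0) (a : κ → F) :
    Q (∑ i ∈ S, a i • w i) = ∑ i ∈ S, a i ^ 2 * Q (w i) := by
  classical
  have hs := isSesq_of_bilinear hQ.polar_bilinear
  induction S using Finset.induction_on with
  | empty =>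
    have := hQ.smul 0 0
    simpa using this
  | insert i S hi ih =>
    have hz : ∑ j ∈ S, QuadraticMap.polar Q (a i • w i) (a j • w j) = 0 := by
      apply Finset.sum_eq_zero
      intro j hj
      have hij : i ≠ j := by rintro rfl; exact hi hj
      rw [hs.smul_left, hs.smul_right, hw i j hij, mul_zero, mul_zero]
    rw [Finset.sum_insert hi, Finset.sum_insert hi, quad_add Q, ih, hQ.smul, hs.sum_right, hz, add_zero]

lemma exists_prime_subfield [Fintype F] (hnp : ¬ (Fintype.card F).Prime) :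
    ∃ (F₁ : Subfield F) (r : ℕ), r.Prime ∧ Fintype.card F = Nat.card F₁ ^ r := by
  obtain ⟨p, hp⟩ := CharP.exists F
  have hpp : Fact p.Prime := ⟨CharP.char_is_prime F p⟩
  have hne : (⊥ : Subfield F) ≠ ⊤ := by
    intro h
    have h1 := Subfield.card_bot F p
    rw [h] at h1
    have h2 : Nat.card (⊤ : Subfield F) = Nat.card F := Nat.card_congr Subfield.topEquiv.toEquiv
    rw [h2, Nat.card_eq_fintype_card] at h1
    rw [h1] at hnp
    exact hnp hpp.out
  obtain ⟨F₁, r, hr, h1, -⟩ := exists_subfield_prime_index ⊥ hne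
  exact ⟨F₁, r, hr, by rw [← Nat.card_eq_fintype_card, h1]⟩

/-- the stabiliser of an orthogonal frame over a non-prime field is realised over a subfield -/
theorem frame_subfield [Fintype F] {Q : (ι → F) → F} (hQ : IsNondegenerateQuadraticForm Q) {H : Subgroup (GL ι F)}
    (hH : FixesQuadForm (matrixSet H) Q) {t : ℕ} {D : Fin t → Submodule F (ι → F)}
    (hD : IsNondegenerateMDecomposition (QuadraticMap.polar Q) 1 D) (hst : H ≤ decompositionStabilizer D)
    (htr : TransOn H D) (hnp : ¬ (Fintype.card F).Prime) : ∃ M, OrthMember Q M ∧ H ≤ M := by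
  classical
  have ht : 0 < t := by have := hD.decomp.two_le; omega
  set i0 : Fin t := ⟨0, ht⟩
  have hcard := card_eq_of_mDecomposition hD.decomp
  obtain ⟨v0, hv0, hv0n⟩ : ∃ v ∈ D i0, v ≠ 0 := by
    apply Submodule.exists_mem_ne_zero_of_ne_bot
    intro h0
    have h2 := hD.decomp.finrank_eq i0
    rw [h0, finrank_bot] at h2
    omega
  have hex : ∀ i, ∃ v ∈ D i, v ≠ 0 ∧ Q v = Q v0 := by
    intro i
    obtain ⟨g, hg, hgi⟩ := htr i0 i
    refine ⟨(g : Matrix ι ι F) *ᵥ v0, ?_, ?_, hH _ ⟨g, hg, rfl⟩ _⟩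
    · rw [← hgi]; exact ⟨v0, hv0, rfl⟩
    · intro h0
      apply hv0n
      exact (glEquiv g).injective (h0.trans (map_zero (glEquiv g)).symm)
  choose v hvD hvn hvQ using hex
  have hspan : ∀ i, ∀ w ∈ D i, ∃ c : F, c • v i = w := by
    intro i w hw
    have h1 := (finrank_eq_one_iff_of_nonzero' (⟨v i, hvD i⟩ : D i) (by
      intro h; exact hvn i (congrArg Subtype.val h))).1 (hD.decomp.finrank_eq i) ⟨w, hw⟩
    obtain ⟨c, hc⟩ := h1
    exact ⟨c, congrArg Subtype.val hc⟩
  have hpol : ∀ i j, i ≠ j → QuadraticMap.polar Q (v i) (v j) = 0 :=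
    fun i j hij => hD.orthogonal i j hij _ (hvD i) _ (hvD j)
  have hc0 : Q v0 ≠ 0 := by
    intro h0
    obtain ⟨x, hx, hx'⟩ := (hD.nondegenerate i0 (v i0) (hvD i0) (hvn i0)).1
    obtain ⟨c, rfl⟩ := hspan i0 x hx
    apply hx'
    rw [hQ.polar_bilinear.smul_left, polar_self hQ, hvQ, h0]; ring
  have hli : LinearIndependent F v := hD.decomp.indep.linearIndependent D hvD hvn
  have hcardt : Fintype.card (Fin t) = finrank F (ι → F) := by
    rw [Module.finrank_fintype_fun_eq_card, Fintype.card_fin, hcard, mul_one]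
  let b := Basis.mk hli (hli.span_eq_top_of_card_eq_finrank' hcardt).ge
  have hb : ∀ i, b i = v i := fun i => by simp [b]
  let e : ι ≃ Fin t := Fintype.equivOfCardEq (by rw [Fintype.card_fin, hcard, mul_one])
  set P := basisGL b e with hP
  have hPe : ∀ j, (P : Matrix ι ι F) *ᵥ (Pi.single j 1) = v (e j) := by
    intro j
    ext i
    rw [Matrix.mulVec_single_one, Matrix.col_apply, hP, basisGL_apply, hb]
  have hPv : ∀ u : ι → F, (P : Matrix ι ι F) *ᵥ u = ∑ j, u j • v (e j) := by
    intro u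
    ext i
    rw [Matrix.mulVec, dotProduct, Finset.sum_apply]
    apply Finset.sum_congr rfl
    intro j _
    rw [Pi.smul_apply, ← hPe, Matrix.mulVec_single_one, Matrix.col_apply, smul_eq_mul, mul_comm]
  obtain ⟨F₀, r, hr, hF⟩ := exists_prime_subfield hnp
  refine ⟨subfieldSubgroup F₀ P, Or.inr (Or.inr (Or.inr (Or.inr (Or.inr (Or.inr (Or.inr (Or.inr (Or.inr (Or.inl
    ⟨F₀, r, P, (Q v0)⁻¹, hr, hF, inv_ne_zero hc0, ?_, rfl⟩))))))))), ?_⟩
  · intro u hu
    show (Q v0)⁻¹ * Q ((P : Matrix ι ι F) *ᵥ u) ∈ F₀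
    rw [hPv, quad_sum_orth hQ Finset.univ (fun j => v (e j)) (fun i j hij => hpol _ _ (fun h => hij (e.injective h))),
      Finset.mul_sum]
    apply F₀.sum_mem
    intro j _
    rw [hvQ]
    have : (Q v0)⁻¹ * (u j ^ 2 * Q v0) = u j ^ 2 := by
      rw [mul_comm, mul_assoc, mul_inv_cancel₀ hc0, mul_one]
    rw [this]
    exact F₀.pow_mem (hu j) 2
  · intro g hg
    apply mem_subfieldSubgroup_of_entries
    obtain ⟨τ, hτ⟩ := hst hg
    -- action on the frame
    have hact : ∀ i, ∃ s : F, (s = 1 ∨ s = -1) ∧ (g : Matrix ι ι F) *ᵥ v i = s • v (τ i) := by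
      intro i
      have h1 : (g : Matrix ι ι F) *ᵥ v i ∈ D (τ i) := by rw [← hτ]; exact ⟨v i, hvD i, rfl⟩
      obtain ⟨s, hs⟩ := hspan _ _ h1
      refine ⟨s, ?_, hs.symm⟩
      have h2 : Q ((g : Matrix ι ι F) *ᵥ v i) = Q (v i) := hH _ ⟨g, hg, rfl⟩ _
      rw [← hs, hQ.smul, hvQ, hvQ] at h2
      have h3 : s ^ 2 = 1 := mul_right_cancel₀ hc0 (h2.trans (one_mul _).symm)
      rw [pow_two] at h3
      exact mul_self_eq_one_iff.1 h3
    intro i j
    obtain ⟨s, hs, hgs⟩ := hact (e j)
    have h1 : ((P⁻¹ * g * P : GL ι F) : Matrix ι ι F) *ᵥ (Pi.single j 1) = s • Pi.single (e.symm (τ (e j))) 1 := by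
      rw [Units.val_mul, Units.val_mul, ← Matrix.mulVec_mulVec, ← Matrix.mulVec_mulVec, hPe, hgs, Matrix.mulVec_smul]
      congr 1
      have h2 := hPe (e.symm (τ (e j)))
      rw [Equiv.apply_symm_apply] at h2
      rw [← h2, Matrix.mulVec_mulVec, ← Units.val_mul, inv_mul_cancel, Units.val_one, Matrix.one_mulVec]
    have h2 := congrFun h1 i
    rw [Matrix.mulVec_single_one, Matrix.col_apply] at h2
    rw [h2, Pi.smul_apply, smul_eq_mul, Pi.single_apply]
    rcases hs with rfl | rfl
    · split_ifs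
      · simp
      · simp
    · split_ifs
      · simp
      · simp

/-! ### class 3 -/

lemma fieldSub_two_gen {K : Subalgebra F (Module.End F (ι → F))} [Nonempty ι] (hK : FieldSub 2 K)
    {κ : Module.End F (ι → F)} (hκ : κ ∈ K) (hκn : ∀ a : F, κ ≠ algebraMap F _ a) :
    ∀ k ∈ K, ∃ a b : F, k = algebraMap F _ a + b • κ := by
  have hli : LinearIndependent F ![(1 : Module.End F (ι → F)), κ] := by
    rw [LinearIndependent.pair_iff' one_ne_zero]
    intro a h3
    apply hκn a
    rw [← h3, ← Algebra.algebraMap_eq_smul_one]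
  have hspan : Submodule.span F (Set.range ![(1 : Module.End F (ι → F)), κ]) = Subalgebra.toSubmodule K := by
    apply Submodule.eq_of_le_of_finrank_eq
    · rw [Submodule.span_le]
      rintro _ ⟨i, rfl⟩
      fin_cases i
      · exact K.one_mem
      · exact hκ
    · rw [finrank_span_eq_card hli, Fintype.card_fin]
      exact hK.finrank_eq.symm
  intro k hk
  have h4 : k ∈ Submodule.span F (Set.range ![(1 : Module.End F (ι → F)), κ]) := by
    rw [hspan]; exact hk
  rw [Matrix.range_cons, Matrix.range_cons, Matrix.range_empty, Set.union_empty, Set.singleton_union,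
    Submodule.mem_span_pair] at h4
  obtain ⟨a, b, hab⟩ := h4
  exact ⟨a, b, by rw [Algebra.algebraMap_eq_smul_one]; exact hab.symm⟩

lemma HermForm.adj_smul {ε : F} {f : (ι → F) → (ι → F) → F} (h : HermForm (RingEquiv.refl F) ε f)
    {a a' : Module.End F (ι → F)} (ha : Adj f a a') (c : F) : Adj f (c • a) (c • a') := by
  intro u v
  show f (c • a u) v = f u (c • a' v)
  rw [h.sesq.smul_left, h.sesq.smul_right, ha]; rfl

/-- self-adjoint elements of a quadratic field which is not self-adjoint are scalars -/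
lemma HermForm.scalar_of_selfAdjoint [Nonempty ι] {ε : F} {f : (ι → F) → (ι → F) → F}
    (h : HermForm (RingEquiv.refl F) ε f) {K : Subalgebra F (Module.End F (ι → F))} (hK : FieldSub 2 K)
    (hns : ¬ ∀ k ∈ K, Adj f k k) {x : Module.End F (ι → F)} (hx : x ∈ K) (hxa : Adj f x x) :
    ∃ c : F, x = algebraMap F _ c := by
  by_contra hcon
  push Not at hcon
  apply hns
  intro k hk
  obtain ⟨a, b, rfl⟩ := fieldSub_two_gen hK hx hcon k hk
  exact h.adj_add (h.adj_algebraMap a) (h.adj_smul hxa b)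

/-- the norm of an element of a quadratic field closed under adjoints -/
lemma HermForm.exists_norm [Nonempty ι] {ε : F} {f : (ι → F) → (ι → F) → F}
    (h : HermForm (RingEquiv.refl F) ε f) {K : Subalgebra F (Module.End F (ι → F))} (hK : FieldSub 2 K)
    (hns : ¬ ∀ k ∈ K, Adj f k k) {k k' : Module.End F (ι → F)} (hk : k ∈ K) (hk' : k' ∈ K) (hkk' : Adj f k k') :
    ∃ c : F, k' * k = algebraMap F _ c := by
  apply h.scalar_of_selfAdjoint hK hns (K.mul_mem hk' hk)
  exact h.adj_mul (h.adj_symm hkk') hkk'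

lemma frob_linear [Fintype F] [CharP F 2] (δ : (ι → F) → F) (hadd : ∀ u v, δ (u + v) = δ u + δ v)
    (hsmul : ∀ (c : F) v, δ (c • v) = c ^ 2 * δ v) : ∃ L : (ι → F) →ₗ[F] F, ∀ v, L v ^ 2 = δ v := by
  have hfact : Fact (Nat.Prime 2) := ⟨Nat.prime_two⟩
  have hE : ExpChar F 2 := ExpChar.prime Nat.prime_two
  let φ := (frobeniusEquiv F 2)
  have hφ : ∀ a, φ a = a ^ 2 := fun a => rfl
  refine ⟨{ toFun := fun v => φ.symm (δ v), map_add' := ?_, map_smul' := ?_ }, fun v => ?_⟩
  · intro u v
    rw [hadd, map_add]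
  · intro c v
    rw [hsmul, ← hφ c, map_mul, RingEquiv.symm_apply_apply]
    rfl
  · show (φ.symm (δ v)) ^ 2 = δ v
    rw [← hφ, RingEquiv.apply_symm_apply]

/-- elements of a quadratic field closed under adjoints, not self-adjoint, are similarities of `Q` -/
theorem quad_similar [Fintype F] [Nonempty ι] {Q : (ι → F) → F} (hQ : IsNondegenerateQuadraticForm Q)
    {H : Subgroup (GL ι F)} (hH : FixesQuadForm (matrixSet H) Q) (hirr : Irred (natRep H))
    (h3 : 3 ≤ Fintype.card ι) {K : Subalgebra F (Module.End F (ι → F))} (hK : FieldSub 2 K)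
    (hnorm : NormAlg (natRep H) K) (hadj : AdjClosed (QuadraticMap.polar Q) K)
    (hns : ¬ ∀ k ∈ K, Adj (QuadraticMap.polar Q) k k) : ∀ k ∈ K, ∃ c : F, ∀ v, Q (k v) = c * Q v := by
  have h := hermForm_polar hQ
  have hs := isSesq_of_bilinear hQ.polar_bilinear
  set f := QuadraticMap.polar Q with hf
  -- norm form
  have hN : ∀ k ∈ K, ∃ c : F, ∀ u v, f (k u) (k v) = c * f u v := by
    intro k hk
    obtain ⟨k', hk', hkk'⟩ := hadj k hk
    obtain ⟨c, hc⟩ := h.exists_norm hK hns hk hk' hkk'
    refine ⟨c, fun u v => ?_⟩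
    rw [hkk']
    have : k' (k v) = c • v := by
      have := LinearMap.congr_fun hc v
      simpa using this
    rw [this, hs.smul_right]; rfl
  by_cases hc : (2 : F) = 0
  swap
  · intro k hk
    obtain ⟨c, hcf⟩ := hN k hk
    refine ⟨c, fun v => ?_⟩
    have h4 := hcf v v
    rw [hf, polar_self hQ, polar_self hQ] at h4
    have h5 : (2 : F) * Q (k v) = 2 * (c * Q v) := by rw [h4]; ring
    exact mul_left_cancel₀ hc h5
  have hch : CharP F 2 := CharTwo.of_one_ne_zero_of_two_eq_zero one_ne_zero hc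
  choose! N hNf using hN
  let δ : Module.End F (ι → F) → (ι → F) → F := fun k v => Q (k v) - N k * Q v
  have hδadd : ∀ k ∈ K, ∀ u v, δ k (u + v) = δ k u + δ k v := by
    intro k hk u v
    show Q (k (u + v)) - N k * Q (u + v) = _
    rw [map_add, quad_add Q, quad_add Q u v, ← hf, hNf k hk]
    show _ = (Q (k u) - N k * Q u) + (Q (k v) - N k * Q v)
    ring
  have hδsmul : ∀ k ∈ K, ∀ (c : F) v, δ k (c • v) = c ^ 2 * δ k v := by
    intro k hk c v
    show Q (k (c • v)) - N k * Q (c • v) = c ^ 2 * (Q (k v) - N k * Q v)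
    rw [map_smul, hQ.smul, hQ.smul]; ring
  -- the subspace on which all elements are similarities
  let W : Submodule F (ι → F) :=
    { carrier := {v | ∀ k ∈ K, δ k v = 0}
      add_mem' := by
        intro a b ha hb k hk
        rw [hδadd k hk, ha k hk, hb k hk, add_zero]
      zero_mem' := by
        intro k hk
        have := hδsmul k hk 0 0
        simpa using this
      smul_mem' := by
        intro c x hx k hk
        rw [hδsmul k hk, hx k hk, mul_zero] }
  have hWinv : ∀ g, W.map (natRep H g) ≤ W := by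
    rintro g _ ⟨v, hv, rfl⟩ k hk
    set k₁ := natRep H g⁻¹ * k * natRep H g with hk₁
    have hk₁K : k₁ ∈ K := hnorm.inv_mem g hk
    have hrel : ∀ v, k (natRep H g v) = natRep H g (k₁ v) := by
      intro v
      rw [hk₁]
      show _ = natRep H g (natRep H g⁻¹ (k (natRep H g v)))
      rw [rho_apply_inv]
    have hQg : ∀ v, Q (natRep H g v) = Q v := fun v => hH _ ⟨g, g.2, rfl⟩ v
    have hfg : ∀ u v, f (natRep H g u) (natRep H g v) = f u v := fun u v => fixesForm_polar hH _ ⟨g, g.2, rfl⟩ u v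
    have hNk : N k₁ = N k := by
      obtain ⟨u, w, huw⟩ := h.exists_one
      have e1 := hNf k₁ hk₁K u w
      have e2 := hNf k hk (natRep H g u) (natRep H g w)
      rw [hrel, hrel, hfg, hfg, e1] at e2
      rw [huw, mul_one, mul_one] at e2
      exact e2
    show Q (k (natRep H g v)) - N k * Q (natRep H g v) = 0
    rw [hrel, hQg, hQg, ← hNk]
    exact hv k₁ hk₁K
  have hW : W = ⊤ := by
    rcases hirr W hWinv with h4 | h4
    swap
    · exact h4
    exfalso
    -- a generator
    obtain ⟨κ, hκ, hκn⟩ : ∃ κ ∈ K, ∀ a : F, κ ≠ algebraMap F _ a := by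
      by_contra hcon
      push Not at hcon
      apply hns
      intro k hk
      obtain ⟨a, rfl⟩ := hcon k hk
      exact h.adj_algebraMap a
    have hgen := fieldSub_two_gen hK hκ hκn
    obtain ⟨κ', hκ', hκκ'⟩ := hadj κ hκ
    obtain ⟨t, ht⟩ : ∃ t : F, κ + κ' = algebraMap F _ t := by
      apply h.scalar_of_selfAdjoint hK hns (K.add_mem hκ hκ')
      have := h.adj_add hκκ' (h.adj_symm hκκ')
      rwa [add_comm κ' κ] at this
    let E : (ι → F) → F := fun v => f v (κ v) - t * Q v
    have hEadd : ∀ u v, E (u + v) = E u + E v := by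
      intro u v
      show f (u + v) (κ (u + v)) - t * Q (u + v) = _
      rw [map_add, hs.add_left, hs.add_right, hs.add_right, quad_add Q]
      have e1 : f v (κ u) = f u (κ' v) := by
        rw [← hκκ']
        exact QuadraticMap.polar_comm Q v (κ u)
      have e2 : f u (κ v) + f u (κ' v) = t * f u v := by
        rw [← hs.add_right]
        have : κ v + κ' v = t • v := by
          have := LinearMap.congr_fun ht v
          simpa using this
        rw [this, hs.smul_right]; rfl
      show _ = (f u (κ u) - t * Q u) + (f v (κ v) - t * Q v)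
      rw [e1]
      linear_combination e2
    have hEsmul : ∀ (c : F) v, E (c • v) = c ^ 2 * E v := by
      intro c v
      show f (c • v) (κ (c • v)) - t * Q (c • v) = c ^ 2 * (f v (κ v) - t * Q v)
      rw [map_smul, hs.smul_left, hs.smul_right, hQ.smul]
      simp only [RingEquiv.refl_apply]
      ring
    obtain ⟨L₁, hL₁⟩ := frob_linear (δ κ) (hδadd κ hκ) (hδsmul κ hκ)
    obtain ⟨L₂, hL₂⟩ := frob_linear E hEadd hEsmul
    obtain ⟨v, hv0, hv1, hv2⟩ : ∃ v : ι → F, v ≠ 0 ∧ L₁ v = 0 ∧ L₂ v = 0 := by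
      set ψ : (ι → F) →ₗ[F] (Fin 2 → F) := LinearMap.pi ![L₁, L₂] with hψ
      have hker : LinearMap.ker ψ ≠ ⊥ := by
        apply LinearMap.ker_ne_bot_of_finrank_lt
        rw [Module.finrank_fin_fun, Module.finrank_fintype_fun_eq_card]
        omega
      obtain ⟨v, hv, hv0⟩ := Submodule.exists_mem_ne_zero_of_ne_bot hker
      rw [LinearMap.mem_ker] at hv
      exact ⟨v, hv0, congrFun hv 0, congrFun hv 1⟩
    have hv1' : δ κ v = 0 := by rw [← hL₁, hv1]; simp
    have hv2' : E v = 0 := by rw [← hL₂, hv2]; simp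
    have hvW : v ∈ W := by
      intro k hk
      obtain ⟨a, b, rfl⟩ := hgen k hk
      have hkv : (algebraMap F (Module.End F (ι → F)) a + b • κ) v = a • v + b • κ v := by
        simp
      -- the norm of a + b κ
      have hNk : N (algebraMap F (Module.End F (ι → F)) a + b • κ) = a ^ 2 + a * b * t + b ^ 2 * N κ := by
        obtain ⟨u, w, huw⟩ := h.exists_one
        have e1 := hNf _ hk u w
        rw [huw, mul_one] at e1
        rw [← e1]
        have e3 : ∀ x, (algebraMap F (Module.End F (ι → F)) a + b • κ) x = a • x + b • κ x := by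
          intro x; simp
        rw [e3, e3, hs.add_left, hs.add_right, hs.add_right, hs.smul_left, hs.smul_left, hs.smul_left, hs.smul_left,
          hs.smul_right, hs.smul_right, hs.smul_right, hs.smul_right, hNf κ hκ, huw, hκκ']
        simp only [RingEquiv.refl_apply]
        have e2 : f u (κ w) + f u (κ' w) = t := by
          rw [← hs.add_right]
          have : κ w + κ' w = t • w := by
            have := LinearMap.congr_fun ht w
            simpa using this
          rw [this, hs.smul_right, huw, mul_one]; rfl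
        linear_combination (a * b) * e2
      show Q ((algebraMap F (Module.End F (ι → F)) a + b • κ) v) - N _ * Q v = 0
      rw [hkv, hNk, quad_add Q, hQ.smul, hQ.smul, ← hf, hs.smul_left, hs.smul_right]
      simp only [RingEquiv.refl_apply]
      have e4 : Q (κ v) - N κ * Q v = 0 := hv1'
      have e5 : f v (κ v) - t * Q v = 0 := hv2'
      linear_combination b ^ 2 * e4 + (a * b) * e5
    rw [h4] at hvW
    exact hv0 hvW
  intro k hk
  refine ⟨N k, fun v => ?_⟩
  have : v ∈ W := by rw [hW]; trivial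
  exact sub_eq_zero.1 (this k hk)

section general

variable {V : Type*} [AddCommGroup V] [Module F V] [FiniteDimensional F V]

lemma eval_surjective {K : Subalgebra F (Module.End F V)} (hcomm : ∀ x ∈ K, ∀ y ∈ K, x * y = y * x)
    (hinv : ∀ x ∈ K, x ≠ 0 → ∃ y ∈ K, x * y = 1) (hfr : finrank F K = finrank F V) {v0 : V} (hv0 : v0 ≠ 0) (x : V) :
    ∃ k ∈ K, k v0 = x := by
  have hinjK : ∀ k ∈ K, ∀ v : V, v ≠ 0 → k v = 0 → k = 0 := by
    intro k hk v hv hkv
    by_contra hne
    obtain ⟨y, hy, hky⟩ := hinv k hk hne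
    rw [hcomm k hk y hy] at hky
    apply hv
    have : (y * k) v = v := by rw [hky]; rfl
    rw [← this]
    show y (k v) = 0
    rw [hkv, map_zero]
  let ev : K →ₗ[F] V := (LinearMap.applyₗ v0).comp K.val.toLinearMap
  have hevi : Function.Injective ev := by
    rw [← LinearMap.ker_eq_bot, LinearMap.ker_eq_bot']
    intro k hk
    exact Subtype.ext (hinjK k.1 k.2 v0 hv0 hk)
  have hevs : Function.Surjective ev :=
    (LinearMap.injective_iff_surjective_of_finrank_eq_finrank hfr).1 hevi
  obtain ⟨k, hk⟩ := hevs x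
  exact ⟨k.1, k.2, hk⟩

/-- a group normalising a field subalgebra of prime degree: powers of one non-commuting element cover everything
modulo the centraliser -/
lemma exists_pow_commute [Finite F] [Nontrivial V] {G : Type*} [Group G] {ρ : G →* Module.End F V}
    {K : Subalgebra F (Module.End F V)} (hcomm : ∀ x ∈ K, ∀ y ∈ K, x * y = y * x)
    (hinv : ∀ x ∈ K, x ≠ 0 → ∃ y ∈ K, x * y = 1) {r : ℕ} (hr : r.Prime) (hfr : finrank F K = r)
    (hnorm : NormAlg ρ K) {g : G} (hg : ¬ ∀ k ∈ K, ρ g * k = k * ρ g) :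
    (∀ k ∈ K, ρ (g ^ r) * k = k * ρ (g ^ r)) ∧
      ∀ x : G, ∃ j : ℕ, ∀ k ∈ K, ρ (x * (g ^ j)⁻¹) * k = k * ρ (x * (g ^ j)⁻¹) := by
  have hfin : Finite (Module.End F V) := Module.finite_of_finite F
  have hfield : IsField K :=
    { exists_pair_ne := ⟨0, 1, fun h => zero_ne_one (congrArg Subtype.val h)⟩
      mul_comm := fun x y => Subtype.ext (hcomm x.1 x.2 y.1 y.2)
      mul_inv_cancel := by
        intro a ha
        obtain ⟨y, hy, h1⟩ := hinv a.1 a.2 (fun h => ha (Subtype.ext h))
        exact ⟨⟨y, hy⟩, Subtype.ext h1⟩ }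
  let iF : Field K := hfield.toField
  let act : G →* Gal(K/F) :=
    { toFun := fun g =>
        { toFun := fun k => ⟨ρ g * k * ρ g⁻¹, hnorm g k k.2⟩
          invFun := fun k => ⟨ρ g⁻¹ * k * ρ g, hnorm.inv_mem g k.2⟩
          left_inv := fun k => Subtype.ext (by
            show ρ g⁻¹ * (ρ g * k * ρ g⁻¹) * ρ g = k
            calc _ = (ρ g⁻¹ * ρ g) * k * (ρ g⁻¹ * ρ g) := by simp only [mul_assoc]
              _ = k := by rw [rho_inv_mul, one_mul, mul_one])
          right_inv := fun k => Subtype.ext (by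
            show ρ g * (ρ g⁻¹ * k * ρ g) * ρ g⁻¹ = k
            calc _ = (ρ g * ρ g⁻¹) * k * (ρ g * ρ g⁻¹) := by simp only [mul_assoc]
              _ = k := by rw [rho_mul_inv, one_mul, mul_one])
          map_mul' := fun a b => Subtype.ext (by
            show ρ g * (a * b) * ρ g⁻¹ = (ρ g * a * ρ g⁻¹) * (ρ g * b * ρ g⁻¹)
            calc ρ g * ((a : Module.End F V) * b) * ρ g⁻¹
                = ρ g * a * 1 * b * ρ g⁻¹ := by simp only [mul_assoc, one_mul]
              _ = _ := by rw [← rho_inv_mul (ρ := ρ) g]; simp only [mul_assoc])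
          map_add' := fun a b => Subtype.ext (by
            show ρ g * (a + b) * ρ g⁻¹ = ρ g * a * ρ g⁻¹ + ρ g * b * ρ g⁻¹
            rw [mul_add, add_mul])
          commutes' := fun c => Subtype.ext (by
            show ρ g * algebraMap F _ c * ρ g⁻¹ = algebraMap F _ c
            rw [← Algebra.commutes, mul_assoc, rho_mul_inv, mul_one]) }
      map_one' := by
        apply AlgEquiv.ext
        intro k
        apply Subtype.ext
        show ((ρ 1 * (k : Module.End F V) * ρ 1⁻¹ : Module.End F V)) = k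
        rw [inv_one, map_one, one_mul, mul_one]
      map_mul' := fun g g' => by
        apply AlgEquiv.ext
        intro k
        apply Subtype.ext
        show ρ (g * g') * (k : Module.End F V) * ρ (g * g')⁻¹ = ρ g * (ρ g' * k * ρ g'⁻¹) * ρ g⁻¹
        rw [mul_inv_rev, map_mul, map_mul]
        simp only [mul_assoc] }
  have hact : ∀ g, act g = 1 → ∀ k ∈ K, ρ g * k = k * ρ g := by
    intro g hg k hk
    have h4 : ρ g * k * ρ g⁻¹ = k := congrArg Subtype.val (DFunLike.congr_fun hg (⟨k, hk⟩ : K))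
    calc ρ g * k = ρ g * k * (ρ g⁻¹ * ρ g) := by rw [rho_inv_mul, mul_one]
      _ = (ρ g * k * ρ g⁻¹) * ρ g := by simp only [mul_assoc]
      _ = k * ρ g := by rw [h4]
  have hcardG : Nat.card Gal(K/F) = r := by
    rw [IsGalois.card_aut_eq_finrank F K]
    exact hfr
  have hg1 : act g ≠ 1 := fun h => hg (hact g h)
  refine ⟨hact _ (by rw [map_pow, ← hcardG]; exact pow_card_eq_one'), fun x => ?_⟩
  have hfG : Finite Gal(K/F) := Nat.finite_of_card_ne_zero (by rw [hcardG]; exact hr.ne_zero)
  have hfp : Fact r.Prime := ⟨hr⟩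
  have h4 : act x ∈ Subgroup.zpowers (act g) := mem_zpowers_of_prime_card hcardG hg1
  rw [← mem_powers_iff_mem_zpowers] at h4
  obtain ⟨j, hj⟩ := h4
  have hj' : act g ^ j = act x := hj
  refine ⟨j, hact _ ?_⟩
  rw [map_mul, map_inv, map_pow, hj', mul_inv_cancel]

/-- an irreducible group covered by `±` powers of one element `g` with `g ^ r = ± 1`, `r` odd: the dimension is at most
`r - 1` -/
lemma finrank_lt_of_pow [Nontrivial V] {G : Type*} [Group G] {ρ : G →* Module.End F V} (hirr : Irred ρ) (g : G) {r : ℕ}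
    (hr3 : 3 ≤ r) (hrodd : Odd r) {ε : F} (hε1 : ε = 1 ∨ ε = -1) (hε : ρ g ^ r = algebraMap F _ ε)
    (hpow : ∀ x : G, ∃ (j : ℕ) (s : F), ρ x = s • ρ g ^ j) (hns : ρ g ≠ algebraMap F _ ε) :
    finrank F V ≤ r - 1 := by
  have hεr : ε ^ r = ε := by
    rcases hε1 with rfl | rfl
    · exact one_pow r
    · exact hrodd.neg_one_pow
  have hinvg : ∀ W : Submodule F V, (∀ w ∈ W, ρ g w ∈ W) → W = ⊥ ∨ W = ⊤ := by
    intro W hW
    apply hirr
    intro x
    obtain ⟨j, s, hj⟩ := hpow x
    rintro _ ⟨w, hw, rfl⟩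
    rw [hj]
    show s • (ρ g ^ j) w ∈ W
    apply W.smul_mem
    clear hj
    induction j with
    | zero => exact hw
    | succ n ih =>
      rw [pow_succ']
      exact hW _ ih
  set T : Module.End F V := ρ g with hT
  have hker : ∀ w, T w = ε • w → w = 0 := by
    rcases hinvg (LinearMap.ker (T - algebraMap F _ ε)) (by
      intro w hw
      rw [LinearMap.mem_ker] at hw ⊢
      have h5 : T w = ε • w := by
        rw [LinearMap.sub_apply, sub_eq_zero, Module.algebraMap_end_apply] at hw
        exact hw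
      rw [h5, map_smul, hw, smul_zero]) with h4 | h4
    · intro w hw
      have : w ∈ LinearMap.ker (T - algebraMap F _ ε) := by
        rw [LinearMap.mem_ker, LinearMap.sub_apply, hw, Module.algebraMap_end_apply, sub_self]
      rw [h4] at this
      exact this
    · exact absurd (sub_eq_zero.1 (LinearMap.ker_eq_top.1 h4)) hns
  have hgeom : ∀ w, (∑ j ∈ Finset.range r, (T ^ j * (algebraMap F (Module.End F V) ε) ^ (r - 1 - j))) w = 0 := by
    intro w
    apply hker
    have hcomm : Commute T (algebraMap F (Module.End F V) ε) := (Algebra.commutes ε T).symm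
    have h5' := hcomm.mul_geom_sum₂ r
    rw [hε, ← map_pow, hεr, sub_self] at h5'
    have h6 := LinearMap.congr_fun h5' w
    rw [Module.End.mul_apply, LinearMap.sub_apply, Module.algebraMap_end_apply, LinearMap.zero_apply, sub_eq_zero] at h6
    exact h6
  obtain ⟨v0, hv0⟩ := exists_ne (0 : V)
  set W : Submodule F V := Submodule.span F (Set.range fun j : Fin (r - 1) => (T ^ (j : ℕ)) v0) with hW
  have hWfr : finrank F W ≤ r - 1 := by
    have := finrank_range_le_card (R := F) (fun j : Fin (r - 1) => (T ^ (j : ℕ)) v0)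
    rwa [Fintype.card_fin] at this
  have hmemW : ∀ j, j < r - 1 → (T ^ j) v0 ∈ W := fun j hj => Submodule.subset_span ⟨⟨j, hj⟩, rfl⟩
  have hlast : (T ^ (r - 1)) v0 ∈ W := by
    have h5 := hgeom v0
    rw [LinearMap.sum_apply] at h5
    have h6 : r = (r - 1) + 1 := by omega
    rw [h6, Finset.sum_range_succ] at h5
    have h7 : r - 1 + 1 - 1 - (r - 1) = 0 := by omega
    rw [h7, pow_zero, mul_one] at h5
    rw [eq_neg_of_add_eq_zero_right h5]
    apply Submodule.neg_mem
    apply Submodule.sum_mem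
    intro j hj
    rw [← map_pow (algebraMap F (Module.End F V)), ← Algebra.commutes]
    show algebraMap F (Module.End F V) _ ((T ^ j) v0) ∈ W
    rw [Module.algebraMap_end_apply]
    exact W.smul_mem _ (hmemW j (Finset.mem_range.1 hj))
  rcases hinvg W (by
    intro w hw
    have h5 : W ≤ W.comap T := by
      nth_rewrite 1 [hW]
      rw [Submodule.span_le]
      rintro _ ⟨j, rfl⟩
      show T ((T ^ (j : ℕ)) v0) ∈ W
      have h6 : T ((T ^ (j : ℕ)) v0) = (T ^ ((j : ℕ) + 1)) v0 := by rw [pow_succ']; rfl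
      rw [h6]
      by_cases h7 : (j : ℕ) + 1 < r - 1
      · exact hmemW _ h7
      · have h8 : (j : ℕ) + 1 = r - 1 := by have := j.2; omega
        rw [h8]; exact hlast
    exact h5 hw) with h4 | h4
  · exfalso
    have h5 : v0 ∈ W := by
      have := hmemW 0 (by omega)
      simpa using this
    rw [h4] at h5
    exact hv0 h5
  · rw [h4, finrank_top] at hWfr
    exact hWfr

end general

/-- a self-adjoint field of degree `dim V` does not occur for an irreducible group -/
theorem card_ne_degree [Fintype F] [Nonempty ι] {Q : (ι → F) → F} (hQ : IsNondegenerateQuadraticForm Q)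
    {H : Subgroup (GL ι F)} (hH : FixesQuadForm (matrixSet H) Q) (hirr : Irred (natRep H))
    (h3 : 3 ≤ Fintype.card ι) {r : ℕ} (hr : r.Prime) {K : Subalgebra F (Module.End F (ι → F))} (hK : FieldSub r K)
    (hnorm : NormAlg (natRep H) K) (hsa : ∀ k ∈ K, Adj (QuadraticMap.polar Q) k k) : Fintype.card ι ≠ r := by
  intro hcard
  have h := hermForm_polar hQ
  have hs := isSesq_of_bilinear hQ.polar_bilinear
  set f := QuadraticMap.polar Q with hf
  have hrodd : Odd r := hr.odd_of_ne_two (by omega)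
  obtain ⟨v0, hv0⟩ := exists_ne (0 : ι → F)
  have hevs : ∀ x : ι → F, ∃ k ∈ K, k v0 = x :=
    fun x => eval_surjective hK.comm hK.inv (by rw [hK.finrank_eq, Module.finrank_fintype_fun_eq_card, hcard]) hv0 x
  by_cases hc : (2 : F) = 0
  · -- characteristic two: `f (k v) v = 0`
    have hsymp : IsSymplecticForm f := isSymplecticForm_polar hQ hc
    have h5 := selfAdjoint_apply hsymp hK hsa
    obtain ⟨x, hx⟩ := h.nd' v0 hv0
    obtain ⟨k, hk, rfl⟩ := hevs x
    exact hx (h5 k hk v0)
  -- commuting isometries are ±1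
  have hK1 : ∀ g : H, (∀ k ∈ K, natRep H g * k = k * natRep H g) → natRep H g = 1 ∨ natRep H g = -1 := by
    intro g hg
    obtain ⟨k, hk, hkv⟩ := hevs (natRep H g v0)
    have hgk : natRep H g = k := by
      refine LinearMap.ext fun v => ?_
      obtain ⟨l, hl, rfl⟩ := hevs v
      have e1 : natRep H g (l v0) = (natRep H g * l) v0 := rfl
      rw [e1, hg l hl]
      show l (natRep H g v0) = k (l v0)
      rw [← hkv]
      show (l * k) v0 = (k * l) v0
      rw [hK.comm _ hl _ hk]
    have hsq : k * k = 1 := by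
      apply h.adj_unique (a := 1) ?_ h.adj_one
      intro u v
      have e1 : f (natRep H g u) (natRep H g v) = f u v := fixesForm_polar hH _ ⟨g, g.2, rfl⟩ u v
      rw [hgk, hsa _ hk] at e1
      exact e1.symm
    have h6 : (k - 1) * (k + 1) = 0 := by
      rw [sub_mul, mul_add, mul_add, hsq, mul_one, one_mul, one_mul]; abel
    rw [hgk]
    by_cases h7 : k - 1 = 0
    · left; exact sub_eq_zero.1 h7
    · right
      obtain ⟨y, hy, hky⟩ := hK.inv _ (K.sub_mem hk K.one_mem) h7
      rw [hK.comm _ (K.sub_mem hk K.one_mem) y hy] at hky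
      have h8 : y * ((k - 1) * (k + 1)) = 0 := by rw [h6, mul_zero]
      rw [← mul_assoc, hky, one_mul] at h8
      exact eq_neg_of_add_eq_zero_left h8
  by_cases htriv : ∀ g : H, ∀ k ∈ K, natRep H g * k = k * natRep H g
  · rcases hirr (Submodule.span F {v0}) (by
      intro g
      rw [Submodule.map_span, Set.image_singleton, Submodule.span_le, Set.singleton_subset_iff]
      rcases hK1 g (htriv g) with h4 | h4
      · rw [h4]; exact Submodule.mem_span_singleton_self v0
      · rw [h4]
        exact Submodule.neg_mem _ (Submodule.mem_span_singleton_self v0)) with h4 | h4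
    · exact hv0 (Submodule.span_singleton_eq_bot.1 h4)
    · have h5 := finrank_span_singleton (K := F) hv0
      rw [h4, finrank_top, Module.finrank_fintype_fun_eq_card] at h5
      omega
  obtain ⟨g, hg⟩ := not_forall.1 htriv
  obtain ⟨hgr, hcov⟩ := exists_pow_commute hK.comm hK.inv hr hK.finrank_eq hnorm hg
  obtain ⟨ε, hε1, hε⟩ : ∃ ε : F, (ε = 1 ∨ ε = -1) ∧ natRep H g ^ r = algebraMap F _ ε := by
    rcases hK1 _ hgr with h4 | h4
    · exact ⟨1, Or.inl rfl, by rw [← map_pow, h4, map_one]⟩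
    · exact ⟨-1, Or.inr rfl, by rw [← map_pow, h4, map_neg, map_one]⟩
  have hpow : ∀ x : H, ∃ (j : ℕ) (s : F), natRep H x = s • natRep H g ^ j := by
    intro x
    obtain ⟨j, hj⟩ := hcov x
    have h6 : natRep H x = natRep H (x * (g ^ j)⁻¹) * natRep H g ^ j := by
      rw [← map_pow, ← map_mul, inv_mul_cancel_right]
    rcases hK1 _ hj with h7 | h7
    · exact ⟨j, 1, by rw [h6, h7, one_mul, one_smul]⟩
    · refine ⟨j, -1, ?_⟩
      rw [h6, h7]
      refine LinearMap.ext fun v => ?_
      show -((natRep H g ^ j) v) = (-1 : F) • (natRep H g ^ j) v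
      rw [neg_smul, one_smul]
  have hfinal := finrank_lt_of_pow hirr g (by omega) hrodd hε1 hε hpow (by
    intro h5
    apply hg
    intro k _
    rw [h5, Algebra.commutes])
  rw [Module.finrank_fintype_fun_eq_card] at hfinal
  omega

/-- **Clifford theory for orthogonal groups** (dimension at least three). -/
theorem orth_clifford [Fintype F] [Nonempty ι] {Q : (ι → F) → F} (hQ : IsNondegenerateQuadraticForm Q)
    (h3 : 3 ≤ Fintype.card ι) {H : Subgroup (GL ι F)} (hH : FixesQuadForm (matrixSet H) Q)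
    (hirr : Irred (natRep H)) {A : Subalgebra F (Module.End F (ι → F))} (hA : NormAlg (natRep H) A)
    (hadj : AdjClosed (QuadraticMap.polar Q) A) :
    (∃ M, OrthMember Q M ∧ H ≤ M) ∨ (IsIsotypic A (ι → F) ∧ Subalgebra.center F A = ⊥) := by
  have h := hermForm_polar hQ
  have hHf := fixesForm_polar hH
  rcases h.clifford_form hHf hirr hA hadj with h1 | ⟨t, m, D, h1, h2, htr⟩ | ⟨m, D, h1, h2, h4, -⟩
  · by_cases hcen : Subalgebra.center F A = ⊥
    · exact Or.inr ⟨h1, hcen⟩
    left
    have hnt : Nontrivial (ι → F) := inferInstance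
    have hss := isSemisimpleModule_of_irred hirr hA
    have hsimple := isSimpleRing_of_isotypic h1
    obtain ⟨r, K, hr, hK, hKA, hnorm, hKadj⟩ := h.exists_fieldSub hA hadj hcen
    have hle := le_subalgebraNormalizer_of_normAlg hnorm
    by_cases hs : ∀ k ∈ K, Adj (QuadraticMap.polar Q) k k
    · refine ⟨_, Or.inr (Or.inr (Or.inr (Or.inr (Or.inr (Or.inl ⟨r, matAlg K, hr,
        card_ne_degree hQ hH hirr h3 hr hK hnorm hs, hK.isFieldSubalgebra, ?_, rfl⟩))))), hle⟩
      intro k hk u v
      exact hs _ hk u v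
    · have hr2 : r = 2 := (h.selfAdjoint_or hr hK hKadj).resolve_left hs
      subst hr2
      refine ⟨_, Or.inr (Or.inr (Or.inr (Or.inr (Or.inr (Or.inr (Or.inl ⟨matAlg K, hK.isFieldSubalgebra, ?_, ?_, ?_,
        rfl⟩)))))), hle⟩
      · intro k hk
        obtain ⟨k', hk', hkk'⟩ := hKadj _ hk
        refine ⟨LinearMap.toMatrix' k', ?_, ?_⟩
        · rw [mem_matAlg, Matrix.toLin'_toMatrix']; exact hk'
        · intro u v
          have := hkk' u v
          rw [← Matrix.toLin'_apply (LinearMap.toMatrix' k'), Matrix.toLin'_toMatrix']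
          exact this
      · intro hs'
        apply hs
        intro k hk u v
        have := hs' (LinearMap.toMatrix' k) (by rw [mem_matAlg, Matrix.toLin'_toMatrix']; exact hk) u v
        rw [← Matrix.toLin'_apply, ← Matrix.toLin'_apply, Matrix.toLin'_toMatrix'] at this
        exact this
      · intro k hk
        exact quad_similar hQ hH hirr h3 hK hnorm hKadj hs _ hk
  · left
    have hiso : IsOrthogonalMDecomposition Q m D := by
      refine ⟨h1, fun i j => ?_⟩
      obtain ⟨g, hg, hgij⟩ := htr i j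
      exact isometric_of_mem hH hg hgij
    by_cases hm : 1 < m ∨ (Fintype.card F).Prime
    · exact ⟨_, Or.inr (Or.inr (Or.inr (Or.inl ⟨t, m, D, hm, hiso, rfl⟩))), h2⟩
    · push Not at hm
      have hm1 : m = 1 := by
        have := h1.decomp.pos
        omega
      subst hm1
      exact frame_subfield hQ hH h1 h2 htr hm.2
  · left
    have hcard := card_eq_of_mDecomposition h1
    exact ⟨_, Or.inr (Or.inr (Or.inr (Or.inr (Or.inl ⟨m, D, by omega, h1,
      pair_singular hQ hH hirr h3 h1 h2 h4, rfl⟩)))), h4⟩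

end Cfsg.Agent.Asch
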