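import Mathlib
import Cfsg.Agent.Char.BurnsideClass
set_option autoImplicit false

/-!
Burnside's two-prime theorem (copy of the proof in the row file, for use in libraries).
-/

open Cfsg

namespace Cfsg.Agent.Asch.PaQb

theorem aux (p q : ℕ) (hp : p.Prime) (hq : q.Prime) (n : ℕ) :
    ∀ (G : Type*) [Group G] [Finite G] (a b : ℕ), Nat.card G = n → n = p ^ a * q ^ b →
      Group.IsSolvable G := by
  induction n using Nat.strong_induction_on with
  | _ n ih =>
  intro G _ _ a b hG hn
  have hfp : Fact p.Prime := ⟨hp⟩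
  have hfq : Fact q.Prime := ⟨hq⟩
  by_cases hsub : Subsingleton G
  · infer_instance
  have hnt : Nontrivial G := not_subsingleton_iff_nontrivial.mp hsub
  by_cases hsimple : IsSimpleGroup G
  · -- simple case
    by_cases hpow : IsPGroup q G
    · have := hpow.isNilpotent
      infer_instance
    -- p divides the order
    have hpG : p ∣ Nat.card G := by
      rw [hG, hn]
      by_contra hnd
      have ha : a = 0 := by
        by_contra ha
        exact hnd (Dvd.dvd.mul_right (dvd_pow_self p ha) _)
      apply hpow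
      rw [IsPGroup.iff_card]
      exact ⟨b, by rw [hG, hn, ha]; simp⟩
    by_cases hpq : p = q
    · exfalso
      apply hpow
      rw [IsPGroup.iff_card]
      exact ⟨a + b, by rw [hG, hn, hpq, pow_add]⟩
    let P : Sylow p G := default
    have hPne : (P : Subgroup G) ≠ ⊥ := P.ne_bot_of_dvd_card hpG
    have hPnt : Nontrivial (P : Subgroup G) := (Subgroup.nontrivial_iff_ne_bot _).mpr hPne
    have hcnt : Nontrivial (Subgroup.center (P : Subgroup G)) := P.isPGroup'.center_nontrivial
    obtain ⟨z, hz⟩ := exists_ne (1 : Subgroup.center (P : Subgroup G))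
    set g : G := ((z : (P : Subgroup G)) : G) with hg
    have hg1 : g ≠ 1 := by
      intro h
      apply hz
      apply Subtype.ext
      apply Subtype.ext
      exact h
    have hle : (P : Subgroup G) ≤ Subgroup.centralizer ({g} : Set G) := by
      intro x hx
      rw [Subgroup.mem_centralizer_singleton_iff]
      have := Subgroup.mem_center_iff.mp z.2 ⟨x, hx⟩
      exact congrArg Subtype.val this
    have hidx : (Subgroup.centralizer ({g} : Set G)).index ∣ q ^ b := by
      have h1 : (Subgroup.centralizer ({g} : Set G)).index ∣ (P : Subgroup G).index :=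
        Subgroup.index_dvd_of_le hle
      have h2 : ¬ p ∣ (P : Subgroup G).index := P.not_dvd_index
      have h3 : (P : Subgroup G).index ∣ p ^ a * q ^ b := by
        rw [← hn, ← hG]; exact Subgroup.index_dvd_card _
      have h4 : Nat.Coprime (P : Subgroup G).index (p ^ a) :=
        ((Nat.Prime.coprime_iff_not_dvd hp).mpr h2).symm.pow_right a
      exact h1.trans (h4.dvd_of_dvd_mul_left h3)
    obtain ⟨k, -, hk⟩ := (Nat.dvd_prime_pow hq).mp hidx
    have hprime := Cfsg.Agent.Char.prime_card_of_simple_of_prime_power_class q k hq g hg1 hk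
    have hfact : Fact (Nat.card G).Prime := ⟨hprime⟩
    have hcyc : IsCyclic G := isCyclic_of_prime_card rfl
    exact Group.isSolvable_of_comm (fun a b => (IsCyclic.commGroup (α := G)).mul_comm a b)
  · -- not simple
    have : ∃ N : Subgroup G, N.Normal ∧ N ≠ ⊥ ∧ N ≠ ⊤ := by
      by_contra hcon
      push Not at hcon
      exact hsimple ⟨fun N hN => by
        by_cases h1 : N = ⊥
        · exact Or.inl h1
        · exact Or.inr (hcon N hN h1)⟩
    obtain ⟨N, hN, hNb, hNt⟩ := this
    have hmul := N.card_mul_index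
    have hfin : 0 < Nat.card G := Nat.card_pos
    have hN1 : 1 < Nat.card N := by
      have := (Subgroup.nontrivial_iff_ne_bot N).mpr hNb
      exact Finite.one_lt_card
    have hN2 : 1 < N.index := by
      have h0 : N.index ≠ 0 := Subgroup.index_ne_zero_of_finite
      have h1 : N.index ≠ 1 := fun h => hNt (Subgroup.index_eq_one.mp h)
      omega
    have key : ∀ m : ℕ, m ∣ n → ∃ a' b' : ℕ, m = p ^ a' * q ^ b' := by
      intro m hm
      rw [hn] at hm
      obtain ⟨x, y, hx, hy, hxy⟩ := exists_dvd_and_dvd_of_dvd_mul hm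
      obtain ⟨a', -, ha'⟩ := (Nat.dvd_prime_pow hp).mp hx
      obtain ⟨b', -, hb'⟩ := (Nat.dvd_prime_pow hq).mp hy
      exact ⟨a', b', by rw [← ha', ← hb']; exact hxy⟩
    have hNlt : Nat.card N < n := by
      rw [← hG, ← hmul]
      exact lt_mul_of_one_lt_right (by omega) hN2
    have hQlt : Nat.card (G ⧸ N) < n := by
      rw [← hG, ← hmul]
      exact lt_mul_of_one_lt_left (by change 0 < N.index; omega) hN1
    obtain ⟨a1, b1, h1⟩ := key (Nat.card N) (by rw [← hG, ← hmul]; exact dvd_mul_right _ _)
    obtain ⟨a2, b2, h2⟩ := key (Nat.card (G ⧸ N)) (by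
      rw [← hG, ← hmul]; exact dvd_mul_left _ _)
    have s1 : Group.IsSolvable N := ih _ hNlt N a1 b1 rfl h1
    have s2 : Group.IsSolvable (G ⧸ N) := ih _ hQlt (G ⧸ N) a2 b2 rfl h2
    exact (Group.isSolvable_iff_subgroup_quotient N).mpr ⟨s1, s2⟩



theorem isSolvable {G : Type*} [Group G] [Finite G] (p q a b : ℕ) (hp : p.Prime) (hq : q.Prime)
    (hcard : Nat.card G = p ^ a * q ^ b) : Group.IsSolvable G :=
  aux p q hp hq _ G a b rfl hcard

end Cfsg.Agent.Asch.PaQb
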